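import Cfsg.Agent.H919.AschBurnside
set_option linter.all false

/-!
# Tensor decompositions from commuting matrix subalgebras (helper919)
-/

set_option autoImplicit false
set_option linter.unusedSectionVars false

namespace Cfsg.Agent.H919

open Cfsg Cfsg.Geo
open scoped MatrixGroups Matrix Kronecker

/-! ### Skolem–Noether for the full matrix algebra -/

section SkolemNoether

variable {ι : Type} [Fintype ι] [DecidableEq ι] {F : Type*} [Field F]

/-- Every algebra automorphism of a full matrix algebra is inner. -/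
theorem exists_conj_of_algEquiv (φ : Matrix ι ι F ≃ₐ[F] Matrix ι ι F) :
    ∃ P : GL ι F, ∀ X : Matrix ι ι F, φ X = (P : Matrix ι ι F) * X * ((P⁻¹ : GL ι F) : Matrix ι ι F) := by
  classical
  let L : Matrix ι ι F ≃ₐ[F] Module.End F (ι → F) := Matrix.toLinAlgEquiv'
  obtain ⟨T, hT⟩ := AlgEquiv.eq_linearEquivConjAlgEquiv ((L.symm.trans φ).trans L)
  let P : GL ι F :=
    { val := LinearMap.toMatrix' (T : (ι → F) →ₗ[F] (ι → F))
      inv := LinearMap.toMatrix' (T.symm : (ι → F) →ₗ[F] (ι → F))
      val_inv := by
        rw [← LinearMap.toMatrix'_comp]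
        simp
      inv_val := by
        rw [← LinearMap.toMatrix'_comp]
        simp }
  refine ⟨P, fun X => ?_⟩
  apply L.injective
  have h1 := congrArg (fun g : Module.End F (ι → F) ≃ₐ[F] Module.End F (ι → F) => g (L X)) hT
  simp only [AlgEquiv.trans_apply, AlgEquiv.symm_apply_apply] at h1
  rw [h1, map_mul, map_mul]
  apply LinearMap.ext
  intro v
  have hP : L (P : Matrix ι ι F) = (T : (ι → F) →ₗ[F] (ι → F)) := by
    change Matrix.toLin' (LinearMap.toMatrix' (T : (ι → F) →ₗ[F] (ι → F))) = _
    exact Matrix.toLin'_toMatrix' _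
  have hP' : L ((P⁻¹ : GL ι F) : Matrix ι ι F) = (T.symm : (ι → F) →ₗ[F] (ι → F)) := by
    change Matrix.toLin' (LinearMap.toMatrix' (T.symm : (ι → F) →ₗ[F] (ι → F))) = _
    exact Matrix.toLin'_toMatrix' _
  rw [hP, hP']
  rfl

end SkolemNoether

/-! ### Ordered products over `Fin t` -/

section OrderedProducts

variable {B : Type*}

lemma prod_ofFn_mul [Monoid B] : ∀ {t : ℕ} (a b : Fin t → B),
    (∀ i j, i ≠ j → Commute (a i) (b j)) →
    (List.ofFn fun i => a i * b i).prod = (List.ofFn a).prod * (List.ofFn b).prod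
  | 0, a, b, _ => by simp
  | t + 1, a, b, h => by
    simp only [List.ofFn_succ, List.prod_cons]
    rw [prod_ofFn_mul (fun i => a i.succ) (fun i => b i.succ)
      (fun i j hij => h _ _ (fun h' => hij (Fin.succ_injective _ h')))]
    have hc : Commute (b 0) (List.ofFn fun i : Fin t => a i.succ).prod := by
      apply Commute.list_prod_right
      intro x hx
      rw [List.mem_ofFn] at hx
      obtain ⟨i, rfl⟩ := hx
      exact (h _ _ (Fin.succ_ne_zero i)).symm
    calc a 0 * b 0 * ((List.ofFn fun i : Fin t => a i.succ).prod * (List.ofFn fun i : Fin t => b i.succ).prod)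
        = a 0 * (b 0 * (List.ofFn fun i : Fin t => a i.succ).prod) * (List.ofFn fun i : Fin t => b i.succ).prod := by
          simp only [mul_assoc]
      _ = _ := by rw [hc.eq]; simp only [mul_assoc]

lemma prod_ofFn_update_one [Monoid B] : ∀ {t : ℕ} (i : Fin t) (x : B),
    (List.ofFn (Function.update (fun _ : Fin t => (1 : B)) i x)).prod = x
  | 0, i, _ => i.elim0
  | t + 1, i, x => by
    rw [List.ofFn_succ, List.prod_cons]
    refine Fin.cases ?_ (fun j => ?_) i
    · rw [Function.update_self]
      have : (fun k : Fin t => Function.update (fun _ : Fin (t+1) => (1 : B)) 0 x k.succ) = fun _ => 1 := by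
        funext k
        rw [Function.update_of_ne (Fin.succ_ne_zero k)]
      rw [this]
      simp
    · rw [Function.update_of_ne (Fin.succ_ne_zero j).symm, one_mul]
      have : (fun k : Fin t => Function.update (fun _ : Fin (t+1) => (1 : B)) j.succ x k.succ)
          = Function.update (fun _ : Fin t => (1 : B)) j x := by
        funext k
        by_cases hk : k = j
        · subst hk
          simp
        · rw [Function.update_of_ne hk, Function.update_of_ne (fun h => hk (Fin.succ_injective _ h))]
      rw [this, prod_ofFn_update_one j x]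

end OrderedProducts

/-! ### Pure tensors -/

section Pure

variable {t m : ℕ} {F : Type*} [Field F]

/-- The matrix of the tensor product of the matrices `x i`. -/
def pureMat (x : Fin t → Matrix (Fin m) (Fin m) F) : Matrix (Fin t → Fin m) (Fin t → Fin m) F :=
  fun a b => ∏ i, x i (a i) (b i)

lemma pureMat_apply (x : Fin t → Matrix (Fin m) (Fin m) F) (a b : Fin t → Fin m) :
    pureMat x a b = ∏ i, x i (a i) (b i) := rfl

lemma pureMat_mul (x y : Fin t → Matrix (Fin m) (Fin m) F) :
    pureMat x * pureMat y = pureMat (fun i => x i * y i) := by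
  ext a b
  simp only [Matrix.mul_apply, pureMat_apply]
  rw [Finset.prod_univ_sum]
  rw [Fintype.piFinset_univ]
  apply Finset.sum_congr rfl
  intro c _
  rw [Finset.prod_mul_distrib]

lemma pureMat_one : pureMat (fun _ : Fin t => (1 : Matrix (Fin m) (Fin m) F)) = 1 := by
  ext a b
  rw [pureMat_apply, Matrix.one_apply]
  by_cases h : a = b
  · subst h
    simp
  · rw [if_neg h]
    obtain ⟨i, hi⟩ : ∃ i, a i ≠ b i := by
      by_contra hc
      push Not at hc
      exact h (funext hc)
    exact Finset.prod_eq_zero (Finset.mem_univ i) (Matrix.one_apply_ne hi)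

variable {B : Type*} [Ring B] [Algebra F B]

/-- The ordered product of algebra homomorphisms as a multilinear map. -/
noncomputable def slotMul (ψ : Fin t → (Matrix (Fin m) (Fin m) F →ₐ[F] B)) :
    MultilinearMap F (fun _ : Fin t => Matrix (Fin m) (Fin m) F) B :=
  (MultilinearMap.mkPiAlgebraFin F t B).compLinearMap (fun i => (ψ i).toLinearMap)

lemma slotMul_apply (ψ : Fin t → (Matrix (Fin m) (Fin m) F →ₐ[F] B))
    (x : Fin t → Matrix (Fin m) (Fin m) F) :
    slotMul ψ x = (List.ofFn fun i => ψ i (x i)).prod := by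
  simp [slotMul]

lemma slotMul_mul (ψ : Fin t → (Matrix (Fin m) (Fin m) F →ₐ[F] B))
    (hψ : ∀ i j, i ≠ j → ∀ x y, Commute (ψ i x) (ψ j y))
    (x y : Fin t → Matrix (Fin m) (Fin m) F) :
    slotMul ψ (fun i => x i * y i) = slotMul ψ x * slotMul ψ y := by
  simp only [slotMul_apply, map_mul]
  exact prod_ofFn_mul _ _ (fun i j hij => hψ i j hij _ _)

lemma slotMul_one (ψ : Fin t → (Matrix (Fin m) (Fin m) F →ₐ[F] B)) :
    slotMul ψ (fun _ => 1) = 1 := by
  simp [slotMul_apply]

/-- The matrix units attached to the slots. -/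
noncomputable def slotUnit (ψ : Fin t → (Matrix (Fin m) (Fin m) F →ₐ[F] B)) (a b : Fin t → Fin m) : B :=
  slotMul ψ (fun i => Matrix.single (a i) (b i) 1)

lemma slotUnit_mul (ψ : Fin t → (Matrix (Fin m) (Fin m) F →ₐ[F] B))
    (hψ : ∀ i j, i ≠ j → ∀ x y, Commute (ψ i x) (ψ j y)) (a b c d : Fin t → Fin m) :
    slotUnit ψ a b * slotUnit ψ c d = if b = c then slotUnit ψ a d else 0 := by
  unfold slotUnit
  rw [← slotMul_mul ψ hψ]
  by_cases h : b = c
  · subst h
    rw [if_pos rfl]
    congr 1
    funext i
    simp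
  · rw [if_neg h]
    obtain ⟨i, hi⟩ : ∃ i, b i ≠ c i := by
      by_contra hc
      push Not at hc
      exact h (funext hc)
    apply MultilinearMap.map_coord_zero (slotMul ψ) i
    simp [Matrix.single_mul_single_of_ne, hi]

/-- The expansion of an ordered product of slots into matrix units. -/
lemma slotMul_eq_sum (ψ : Fin t → (Matrix (Fin m) (Fin m) F →ₐ[F] B))
    (x : Fin t → Matrix (Fin m) (Fin m) F) :
    slotMul ψ x = ∑ a, ∑ b, pureMat x a b • slotUnit ψ a b := by
  classical
  have hx : x = fun i => ∑ p : Fin m × Fin m, x i p.1 p.2 • Matrix.single p.1 p.2 (1 : F) := by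
    funext i
    conv_lhs => rw [Matrix.matrix_eq_sum_single (x i)]
    rw [Fintype.sum_prod_type]
    apply Finset.sum_congr rfl
    intro j _
    apply Finset.sum_congr rfl
    intro l _
    simp
  conv_lhs => rw [hx]
  rw [MultilinearMap.map_sum]
  rw [← (Equiv.arrowProdEquivProdArrow (Fin t) (fun _ => Fin m) (fun _ => Fin m)).symm.sum_comp]
  rw [Fintype.sum_prod_type]
  apply Finset.sum_congr rfl
  intro a _
  apply Finset.sum_congr rfl
  intro b _
  rw [MultilinearMap.map_smul_univ]
  rfl

/-- The algebra homomorphism from the full matrix algebra of the tensor power. -/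
noncomputable def slotHom (ψ : Fin t → (Matrix (Fin m) (Fin m) F →ₐ[F] B))
    (hψ : ∀ i j, i ≠ j → ∀ x y, Commute (ψ i x) (ψ j y)) :
    Matrix (Fin t → Fin m) (Fin t → Fin m) F →ₐ[F] B :=
  AlgHom.ofLinearMap
    { toFun := fun X => ∑ a, ∑ b, X a b • slotUnit ψ a b
      map_add' := fun X Y => by
        simp only [Matrix.add_apply, add_smul, Finset.sum_add_distrib]
      map_smul' := fun c X => by
        simp only [Matrix.smul_apply, smul_eq_mul, mul_smul, Finset.smul_sum, RingHom.id_apply] }
    (by
      have h := slotMul_eq_sum ψ (fun _ => 1)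
      rw [slotMul_one, pureMat_one] at h
      exact h.symm)
    (by
      classical
      intro X Y
      change ∑ a, ∑ b, (X * Y) a b • slotUnit ψ a b
        = (∑ a, ∑ b, X a b • slotUnit ψ a b) * (∑ a, ∑ b, Y a b • slotUnit ψ a b)
      have h1 : ∀ a, (∑ b, X a b • slotUnit ψ a b) * (∑ c, ∑ d, Y c d • slotUnit ψ c d)
          = ∑ d, (X * Y) a d • slotUnit ψ a d := by
        intro a
        rw [Finset.sum_mul]
        have h2 : ∀ b, X a b • slotUnit ψ a b * (∑ c, ∑ d, Y c d • slotUnit ψ c d)
            = ∑ d, (X a b * Y b d) • slotUnit ψ a d := by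
          intro b
          rw [Finset.mul_sum, Finset.sum_eq_single b]
          · rw [Finset.mul_sum]
            apply Finset.sum_congr rfl
            intro d _
            rw [smul_mul_smul_comm, slotUnit_mul ψ hψ, if_pos rfl]
          · intro c _ hc
            rw [Finset.mul_sum]
            apply Finset.sum_eq_zero
            intro d _
            rw [smul_mul_smul_comm, slotUnit_mul ψ hψ, if_neg (fun h => hc h.symm), smul_zero]
          · intro h
            exact absurd (Finset.mem_univ b) h
        simp only [h2]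
        rw [Finset.sum_comm]
        apply Finset.sum_congr rfl
        intro d _
        rw [Matrix.mul_apply, Finset.sum_smul]
      rw [Finset.sum_mul]
      exact (Finset.sum_congr rfl (fun a _ => h1 a)).symm)

lemma slotHom_apply (ψ : Fin t → (Matrix (Fin m) (Fin m) F →ₐ[F] B))
    (hψ : ∀ i j, i ≠ j → ∀ x y, Commute (ψ i x) (ψ j y))
    (X : Matrix (Fin t → Fin m) (Fin t → Fin m) F) :
    slotHom ψ hψ X = ∑ a, ∑ b, X a b • slotUnit ψ a b := rfl

lemma slotHom_pureMat (ψ : Fin t → (Matrix (Fin m) (Fin m) F →ₐ[F] B))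
    (hψ : ∀ i j, i ≠ j → ∀ x y, Commute (ψ i x) (ψ j y))
    (x : Fin t → Matrix (Fin m) (Fin m) F) :
    slotHom ψ hψ (pureMat x) = slotMul ψ x := by
  rw [slotHom_apply, slotMul_eq_sum]

/-- A single matrix in slot `i`. -/
def slotMat (i : Fin t) (x : Matrix (Fin m) (Fin m) F) : Matrix (Fin t → Fin m) (Fin t → Fin m) F :=
  pureMat (Function.update (fun _ => 1) i x)

lemma slotHom_slotMat (ψ : Fin t → (Matrix (Fin m) (Fin m) F →ₐ[F] B))
    (hψ : ∀ i j, i ≠ j → ∀ x y, Commute (ψ i x) (ψ j y)) (i : Fin t)
    (x : Matrix (Fin m) (Fin m) F) :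
    slotHom ψ hψ (slotMat i x) = ψ i x := by
  rw [slotMat, slotHom_pureMat, slotMul_apply]
  have : (fun j => ψ j (Function.update (fun _ : Fin t => (1 : Matrix (Fin m) (Fin m) F)) i x j))
      = Function.update (fun _ : Fin t => (1 : B)) i (ψ i x) := by
    funext j
    by_cases h : j = i
    · subst h
      simp
    · rw [Function.update_of_ne h, Function.update_of_ne h, map_one]
  rw [this, prod_ofFn_update_one]

/-- If the commuting images of the `ψ i` generate `B` then the tensor power maps onto `B`
isomorphically. -/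
theorem slotHom_bijective [Nontrivial B] (hm : 0 < m)
    (ψ : Fin t → (Matrix (Fin m) (Fin m) F →ₐ[F] B))
    (hψ : ∀ i j, i ≠ j → ∀ x y, Commute (ψ i x) (ψ j y))
    (hgen : ⨆ i, (ψ i).range = ⊤) :
    Function.Bijective (slotHom ψ hψ) := by
  have : Nonempty (Fin m) := ⟨⟨0, hm⟩⟩
  constructor
  · exact (slotHom ψ hψ).toRingHom.injective
  · have h1 : (⊤ : Subalgebra F B) ≤ (slotHom ψ hψ).range := by
      rw [← hgen]
      apply iSup_le
      rintro i _ ⟨x, rfl⟩
      exact ⟨slotMat i x, slotHom_slotMat ψ hψ i x⟩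
    intro b
    exact h1 (show b ∈ (⊤ : Subalgebra F B) from trivial)

end Pure

end Cfsg.Agent.H919
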