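import Cfsg.Prelude.Def_GeometricClasses
set_option linter.all false

/-!
# Shared definitions for the Aschbacher core library (helper919, coordinator)

`HermForm σ ε f`: `f` is a non-degenerate reflexive form on `F^ι`, linear in the first argument and
`f v w = ε * σ (f w v)`, with `σ` an automorphism of order at most two.
-/

set_option autoImplicit false
set_option linter.unusedSectionVars false

namespace Cfsg.Agent.H919

open Cfsg Cfsg.Geo
open scoped MatrixGroups Matrix Kronecker

variable {ι : Type} [Fintype ι] [DecidableEq ι] {F : Type*} [Field F]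

/-- Non-degenerate (σ, ε)-hermitian form on `F^ι`: linear in the first argument, `f v w = ε * σ (f w v)`. -/
structure HermForm (σ : F ≃+* F) (ε : F) (f : (ι → F) → (ι → F) → F) : Prop where
  add_left : ∀ x y v, f (x + y) v = f x v + f y v
  smul_left : ∀ (c : F) (x v : ι → F), f (c • x) v = c * f x v
  sigma_sq : ∀ a : F, σ (σ a) = a
  eps : ε * σ ε = 1
  herm : ∀ v w, f v w = ε * σ (f w v)
  nondegenerate : IsNondegenerateForm f

namespace HermForm

variable {σ : F ≃+* F} {ε : F} {f : (ι → F) → (ι → F) → F}

lemma add_right (h : HermForm σ ε f) (v x y : ι → F) : f v (x + y) = f v x + f v y := by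
  rw [h.herm v (x + y), h.herm v x, h.herm v y, h.add_left, map_add, mul_add]

lemma smul_right (h : HermForm σ ε f) (v : ι → F) (c : F) (x : ι → F) : f v (c • x) = σ c * f v x := by
  rw [h.herm v (c • x), h.herm v x, h.smul_left, map_mul]; ring

lemma eps_ne_zero (h : HermForm σ ε f) : ε ≠ 0 := by
  intro h0
  have := h.eps
  rw [h0, zero_mul] at this
  exact zero_ne_one this

lemma zero_left (h : HermForm σ ε f) (v : ι → F) : f 0 v = 0 := by
  have := h.smul_left 0 0 v
  simpa using this

lemma zero_right (h : HermForm σ ε f) (v : ι → F) : f v 0 = 0 := by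
  have := h.smul_right v 0 0
  simpa using this

lemma neg_left (h : HermForm σ ε f) (x v : ι → F) : f (-x) v = - f x v := by
  have := h.smul_left (-1) x v
  simpa using this

lemma neg_right (h : HermForm σ ε f) (v x : ι → F) : f v (-x) = - f v x := by
  have := h.smul_right v (-1) x
  simpa using this

lemma sub_left (h : HermForm σ ε f) (x y v : ι → F) : f (x - y) v = f x v - f y v := by
  rw [sub_eq_add_neg, h.add_left, h.neg_left, ← sub_eq_add_neg]

lemma sub_right (h : HermForm σ ε f) (v x y : ι → F) : f v (x - y) = f v x - f v y := by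
  rw [sub_eq_add_neg, h.add_right, h.neg_right, ← sub_eq_add_neg]

lemma sum_left (h : HermForm σ ε f) {κ : Type*} (s : Finset κ) (x : κ → ι → F) (v : ι → F) :
    f (∑ k ∈ s, x k) v = ∑ k ∈ s, f (x k) v := by
  classical
  induction s using Finset.induction_on with
  | empty => simpa using h.zero_left v
  | insert a s ha ih => rw [Finset.sum_insert ha, Finset.sum_insert ha, h.add_left, ih]

lemma sum_right (h : HermForm σ ε f) {κ : Type*} (s : Finset κ) (v : ι → F) (x : κ → ι → F) :
    f v (∑ k ∈ s, x k) = ∑ k ∈ s, f v (x k) := by
  classical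
  induction s using Finset.induction_on with
  | empty => simpa using h.zero_right v
  | insert a s ha ih => rw [Finset.sum_insert ha, Finset.sum_insert ha, h.add_right, ih]

end HermForm

end Cfsg.Agent.H919
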