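import Cfsg.Agent.H919.AschWreathForm2
import Cfsg.Agent.H922.OddTensor
set_option linter.all false

/-!
# Tensor power decompositions and symplectic forms (helper919)

Corollaries of `C_wreath_form`:
* `C7_form` : the conclusion in the vocabulary of `IsTensorPowerFormStructure`;
* `C7_symplectic_odd` : symplectic forms, characteristic not two;
* `C7_symplectic_even` : symplectic forms, characteristic two: a quadratic form is preserved;
* `C7_quad_even` : the quadratic form of characteristic two vanishes on the pure tensors.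
-/

set_option autoImplicit false
set_option linter.unusedSectionVars false
set_option linter.unusedVariables false

namespace Cfsg.Agent.H919

open Cfsg Cfsg.Geo Cfsg.Agent.H922
open scoped MatrixGroups Matrix Kronecker commutatorElement

section Gram

variable {ι : Type} [Fintype ι] [DecidableEq ι] {F : Type*} [Field F] {t m : ℕ}

lemma gramMatrix_sesq (σ : F ≃+* F) (G : Matrix (Fin m) (Fin m) F) : gramMatrix (sesq σ G) = G := by
  ext a b
  exact sesq_single σ G a b

lemma hasStructure {σ : F ≃+* F} {f : (ι → F) → (ι → F) → F} {e : ι ≃ (Fin t → Fin m)} {P : GL ι F}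
    {c : F} {G : Matrix (Fin m) (Fin m) F} (hc : c ≠ 0)
    (h : ∀ x y : (Fin t → Fin m) → F, f ((P : Matrix ι ι F) *ᵥ (x ∘ e)) ((P : Matrix ι ι F) *ᵥ (y ∘ e))
        = c * sesq σ (pureMat (fun _ => G)) x y) :
    IsTensorPowerFormStructure σ f (sesq σ G) e P := by
  refine ⟨c, hc, fun x y => ?_⟩
  rw [h, sesq_eq_sum]
  simp only [gramMatrix_sesq, pureMat_apply]

lemma hermForm_gram {σ : F ≃+* F} {ε : F} {G : Matrix (Fin m) (Fin m) F} (h : HermForm σ ε (sesq σ G))
    (a b : Fin m) : G a b = ε * σ (G b a) := by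
  have := h.herm (Pi.single a 1) (Pi.single b 1)
  rwa [sesq_single, sesq_single] at this

/-- A symplectic form given by an alternating Gram matrix. -/
lemma isSymplecticForm_sesq {G : Matrix (Fin m) (Fin m) F}
    (h : HermForm (RingEquiv.refl F) (-1) (sesq (RingEquiv.refl F) G)) (hd : ∀ v, sesq (RingEquiv.refl F) G v v = 0) :
    IsSymplecticForm (sesq (RingEquiv.refl F) G) where
  bilinear := ⟨h.add_left, h.smul_left, h.add_right, fun c v x => h.smul_right v c x⟩
  skew := fun v w => by rw [h.herm v w]; simp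
  alternating := hd
  nondegenerate := h.nondegenerate

lemma isSymmetricForm_sesq {G : Matrix (Fin m) (Fin m) F}
    (h : HermForm (RingEquiv.refl F) 1 (sesq (RingEquiv.refl F) G)) :
    IsSymmetricForm (sesq (RingEquiv.refl F) G) where
  bilinear := ⟨h.add_left, h.smul_left, h.add_right, fun c v x => h.smul_right v c x⟩
  symm := fun v w => by rw [h.herm v w]; simp
  nondegenerate := h.nondegenerate

lemma isUnitaryForm_sesq {σ : F ≃+* F} (hσ : σ ≠ RingEquiv.refl F) {G : Matrix (Fin m) (Fin m) F}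
    (h : HermForm σ 1 (sesq σ G)) : IsUnitaryForm σ (sesq σ G) where
  ne_refl := hσ
  involutive := h.sigma_sq
  add_left := h.add_left
  smul_left := h.smul_left
  herm := fun v w => by rw [h.herm v w, one_mul]
  nondegenerate := h.nondegenerate

lemma eps_pm {ε : F} {f : (ι → F) → (ι → F) → F} (h : HermForm (RingEquiv.refl F) ε f) : ε = 1 ∨ ε = -1 := by
  have h1 := h.eps
  simp only [RingEquiv.refl_apply] at h1
  exact mul_self_eq_one_iff.1 h1

end Gram

section Semilinear

variable {κ : Type} [Fintype κ] [DecidableEq κ] {F : Type*} [Field F]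

/-- In characteristic two, over a finite field, a Frobenius-semilinear functional fixed by a set of matrices
spanning the matrix algebra is zero, in dimension at least two. -/
theorem semilinear_eq_zero [Finite F] (h2 : (2 : F) = 0) (hκ : 2 ≤ Fintype.card κ) {S : Set (Matrix κ κ F)}
    (hS : Algebra.adjoin F S = ⊤) {q : (κ → F) → F} (hadd : ∀ x y, q (x + y) = q x + q y)
    (hsmul : ∀ (c : F) x, q (c • x) = c ^ 2 * q x) (hq : ∀ s ∈ S, ∀ x, q (s *ᵥ x) = q x) (x : κ → F) :
    q x = 0 := by
  classical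
  have hzero : q 0 = 0 := by
    have := hsmul 0 0
    simpa using this
  let V₀ : Submodule F (κ → F) :=
    { carrier := {x | q x = 0}
      add_mem' := by
        intro a b ha hb
        simp only [Set.mem_setOf_eq] at ha hb ⊢
        rw [hadd, ha, hb, add_zero]
      zero_mem' := hzero
      smul_mem' := by
        intro c x hx
        simp only [Set.mem_setOf_eq] at hx ⊢
        rw [hsmul, hx, mul_zero] }
  have hirr := (absIrr_of_adjoin_eq_top hS).1 V₀ (by
    rintro s hs _ ⟨v, hv, rfl⟩
    change q (s *ᵥ v) = 0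
    rw [hq s hs]
    exact hv)
  rcases hirr with h | h
  · exfalso
    obtain ⟨a, b, hab⟩ := Fintype.exists_pair_of_one_lt_card (α := κ) (by omega)
    set u : κ → F := Pi.single a 1 with hu
    set w : κ → F := Pi.single b 1 with hw
    have hu0 : u ≠ 0 := by
      intro h0
      have := congrFun h0 a
      simp [hu] at this
    have hw0 : w ≠ 0 := by
      intro h0
      have := congrFun h0 b
      simp [hw] at this
    have hqw : q w ≠ 0 := by
      intro h0
      have : w ∈ V₀ := h0
      rw [h] at this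
      exact hw0 this
    have hchar : CharP F 2 := CharTwo.of_one_ne_zero_of_two_eq_zero one_ne_zero h2
    obtain ⟨c, hc⟩ : IsSquare (q u / q w) := by
      let _ := Fintype.ofFinite F
      exact FiniteField.isSquare_of_char_two (ringChar.eq F 2) _
    have hmem : u + c • w ∈ V₀ := by
      change q (u + c • w) = 0
      rw [hadd, hsmul, sq, ← hc, div_mul_cancel₀ _ hqw]
      rw [← two_mul, h2, zero_mul]
    rw [h] at hmem
    have h0 : u + c • w = 0 := hmem
    have h1 := congrFun h0 a
    simp [hu, hw, Pi.single_eq_of_ne hab] at h1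
  · have : x ∈ V₀ := by rw [h]; trivial
    exact this

end Semilinear

section TQuad

variable {F : Type*} [Field F] {t m : ℕ}

/-- The quadratic form attached to the tensor power of the alternating matrix `G`, using only the pairs
ordered at the coordinate `j`. -/
def tQuad (j : Fin t) (G : Matrix (Fin m) (Fin m) F) (x : (Fin t → Fin m) → F) : F :=
  ∑ p : (Fin t → Fin m) × (Fin t → Fin m), if p.1 j < p.2 j then x p.1 * (∏ i, G (p.1 i) (p.2 i)) * x p.2 else 0

lemma tQuad_smul (j : Fin t) (G : Matrix (Fin m) (Fin m) F) (c : F) (x : (Fin t → Fin m) → F) :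
    tQuad j G (c • x) = c ^ 2 * tQuad j G x := by
  rw [tQuad, tQuad, Finset.mul_sum]
  apply Finset.sum_congr rfl
  intro p _
  by_cases h : p.1 j < p.2 j
  · simp only [if_pos h, Pi.smul_apply, smul_eq_mul]; ring
  · simp only [if_neg h, mul_zero]

lemma tQuad_polar (j : Fin t) {G : Matrix (Fin m) (Fin m) F} (hs : ∀ a b, G a b = G b a)
    (hd : ∀ a, G a a = 0) (x y : (Fin t → Fin m) → F) :
    QuadraticMap.polar (tQuad j G) x y = sesq (RingEquiv.refl F) (pureMat (fun _ => G)) x y := by
  have h1 : QuadraticMap.polar (tQuad j G) x y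
      = ∑ p : (Fin t → Fin m) × (Fin t → Fin m), (if p.1 j < p.2 j then x p.1 * (∏ i, G (p.1 i) (p.2 i)) * y p.2 else 0)
      + ∑ p : (Fin t → Fin m) × (Fin t → Fin m), (if p.1 j < p.2 j then y p.1 * (∏ i, G (p.1 i) (p.2 i)) * x p.2 else 0) := by
    rw [QuadraticMap.polar, tQuad, tQuad, tQuad, ← Finset.sum_sub_distrib, ← Finset.sum_sub_distrib,
      ← Finset.sum_add_distrib]
    apply Finset.sum_congr rfl
    intro p _
    by_cases h : p.1 j < p.2 j
    · simp only [if_pos h, Pi.add_apply]; ring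
    · simp only [if_neg h]; ring
  have h2 : ∑ p : (Fin t → Fin m) × (Fin t → Fin m), (if p.1 j < p.2 j then y p.1 * (∏ i, G (p.1 i) (p.2 i)) * x p.2 else 0)
      = ∑ p : (Fin t → Fin m) × (Fin t → Fin m), (if p.2 j < p.1 j then x p.1 * (∏ i, G (p.1 i) (p.2 i)) * y p.2 else 0) := by
    rw [← Equiv.sum_comp (Equiv.prodComm _ _)]
    apply Finset.sum_congr rfl
    rintro ⟨a, b⟩ _
    change (if b j < a j then y b * (∏ i, G (b i) (a i)) * x a else 0)
      = (if b j < a j then x a * (∏ i, G (a i) (b i)) * y b else 0)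
    by_cases h : b j < a j
    · rw [if_pos h, if_pos h]
      have h3 : ∏ i, G (b i) (a i) = ∏ i, G (a i) (b i) := Finset.prod_congr rfl fun i _ => hs _ _
      rw [h3]; ring
    · rw [if_neg h, if_neg h]
  rw [h1, h2, sesq_eq_sum, ← Finset.sum_add_distrib, Fintype.sum_prod_type]
  apply Finset.sum_congr rfl
  intro a _
  apply Finset.sum_congr rfl
  intro b _
  rw [RingEquiv.refl_apply, pureMat_apply]
  rcases lt_trichotomy (a j) (b j) with h | h | h
  · simp only [if_pos h, if_neg (not_lt.2 h.le), add_zero]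
  · simp only [h, lt_irrefl, if_false, add_zero]
    have h3 : ∏ i, G (a i) (b i) = 0 := Finset.prod_eq_zero (Finset.mem_univ j) (by rw [h, hd])
    rw [h3]; ring
  · simp only [if_pos h, if_neg (not_lt.2 h.le), zero_add]

lemma tQuad_pureVec (h2 : (2 : F) = 0) {j i₀ : Fin t} (hij : i₀ ≠ j) {G : Matrix (Fin m) (Fin m) F}
    (hs : ∀ a b, G a b = G b a) (hd : ∀ a, G a a = 0) (w : Fin t → (Fin m → F)) :
    tQuad j G (pureVec w) = 0 := by
  classical
  let g : (Fin t → Fin m) × (Fin t → Fin m) → (Fin t → Fin m) × (Fin t → Fin m) :=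
    fun p => (Function.update p.1 i₀ (p.2 i₀), Function.update p.2 i₀ (p.1 i₀))
  have hg1 : ∀ p, (g p).1 j = p.1 j := fun p => by simp [g, Function.update_of_ne hij.symm]
  have hg2 : ∀ p, (g p).2 j = p.2 j := fun p => by simp [g, Function.update_of_ne hij.symm]
  have hprod : ∀ p : (Fin t → Fin m) × (Fin t → Fin m), ∀ φ : Fin t → Fin m → Fin m → F,
      (∀ i a b, φ i a b = φ i b a) → ∏ i, φ i ((g p).1 i) ((g p).2 i) = ∏ i, φ i (p.1 i) (p.2 i) := by
    intro p φ hφ
    apply Finset.prod_congr rfl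
    intro i _
    by_cases hi : i = i₀
    · subst hi; simp only [g, Function.update_self]; exact hφ _ _ _
    · simp only [g, Function.update_of_ne hi]
  have hval : ∀ p, (if (g p).1 j < (g p).2 j then pureVec w (g p).1 * (∏ i, G ((g p).1 i) ((g p).2 i)) * pureVec w (g p).2 else 0)
      = (if p.1 j < p.2 j then pureVec w p.1 * (∏ i, G (p.1 i) (p.2 i)) * pureVec w p.2 else 0) := by
    intro p
    rw [hg1, hg2]
    by_cases h : p.1 j < p.2 j
    · rw [if_pos h, if_pos h]
      have h3 := hprod p (fun _ => G) (fun _ => hs)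
      have h4 := hprod p (fun i a b => w i a * w i b) (fun i a b => mul_comm _ _)
      simp only [Finset.prod_mul_distrib] at h4
      have h5 : pureVec w (g p).1 * pureVec w (g p).2 = pureVec w p.1 * pureVec w p.2 := h4
      calc _ = (pureVec w (g p).1 * pureVec w (g p).2) * (∏ i, G ((g p).1 i) ((g p).2 i)) := by ring
        _ = (pureVec w p.1 * pureVec w p.2) * (∏ i, G (p.1 i) (p.2 i)) := by rw [h5]; exact congrArg _ h3
        _ = _ := by ring
    · rw [if_neg h, if_neg h]
  rw [tQuad]
  apply Finset.sum_involution (fun p _ => g p)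
  · intro p _
    rw [hval p, ← two_mul, h2, zero_mul]
  · intro p _ hp hgp
    apply hp
    have h3 : p.2 i₀ = p.1 i₀ := by
      have := congrArg (fun q => q.1 i₀) hgp
      simpa [g] using this
    have h4 : ∏ i, G (p.1 i) (p.2 i) = 0 := Finset.prod_eq_zero (Finset.mem_univ i₀) (by rw [h3, hd])
    rw [h4]; simp
  · intro p _; exact Finset.mem_univ _
  · intro p _
    apply Prod.ext
    · funext i
      by_cases hi : i = i₀
      · subst hi; simp [g]
      · simp [g, Function.update_of_ne hi]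
    · funext i
      by_cases hi : i = i₀
      · subst hi; simp [g]
      · simp [g, Function.update_of_ne hi]

lemma single_eq_pureVec (a : Fin t → Fin m) :
    (Pi.single a (1 : F) : (Fin t → Fin m) → F) = pureVec (fun i => Pi.single (a i) 1) := by
  classical
  funext b
  rw [pureVec]
  by_cases h : b = a
  · subst h; simp
  · rw [Pi.single_eq_of_ne h]
    have : ∃ i, b i ≠ a i := by
      by_contra hcon
      push Not at hcon
      exact h (funext hcon)
    obtain ⟨i, hi⟩ := this
    exact (Finset.prod_eq_zero (Finset.mem_univ i) (by rw [Pi.single_eq_of_ne hi])).symm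

/-- An element of the standard tensor-wreath subgroup maps pure tensors to pure tensors. -/
lemma exists_pureVec_of_mem {g : GL (Fin t → Fin m) F} (hg : g ∈ tensorWreathStandard m t F)
    (w : Fin t → (Fin m → F)) : ∃ w', (g : Matrix (Fin t → Fin m) (Fin t → Fin m) F) *ᵥ pureVec w = pureVec w' := by
  obtain ⟨σ, x, rfl⟩ := exists_normal_form hg
  refine ⟨fun i => (x i : Matrix (Fin m) (Fin m) F) *ᵥ w (σ⁻¹ i), ?_⟩
  rw [Units.val_mul, ← Matrix.mulVec_mulVec, facPerm_mulVec, pureGL_val, pureMat_mulVec]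

end TQuad

section Frame

variable {ι : Type} [Fintype ι] [DecidableEq ι] {F : Type*} [Field F] {t m : ℕ}

/-- The pure tensors of the frame `(e, P)`. -/
def framePure (e : ι ≃ (Fin t → Fin m)) (P : GL ι F) (w : Fin t → (Fin m → F)) : ι → F :=
  (P : Matrix ι ι F) *ᵥ (pureVec w ∘ e)

lemma exists_framePure {e : ι ≃ (Fin t → Fin m)} {P : GL ι F} {g : GL ι F}
    (hg : g ∈ tensorWreathSubgroup m t e P) (w : Fin t → (Fin m → F)) :
    ∃ w', (g : Matrix ι ι F) *ᵥ framePure e P w = framePure e P w' := by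
  obtain ⟨k, hk, rfl⟩ := (mem_tensorWreathSubgroup_iff e P g).1 hg
  obtain ⟨w', hw'⟩ := exists_pureVec_of_mem hk w
  exact ⟨w', by rw [framePure, frameGL_mulVec, hw', framePure]⟩

/-- Two quadratic forms with the same polar form which agree on the pure tensors are equal. -/
lemma quad_eq_of_pure {Q Q' : (ι → F) → F} (hQ : ∀ (c : F) v, Q (c • v) = c ^ 2 * Q v)
    (hQ' : ∀ (c : F) v, Q' (c • v) = c ^ 2 * Q' v)
    (hpol : ∀ u v, QuadraticMap.polar Q u v = QuadraticMap.polar Q' u v)
    (e : ι ≃ (Fin t → Fin m)) (P : GL ι F)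
    (hpure : ∀ w, Q (framePure e P w) = Q' (framePure e P w)) (v : ι → F) : Q v = Q' v := by
  classical
  have hadd : ∀ u v, Q (u + v) - Q' (u + v) = (Q u - Q' u) + (Q v - Q' v) := by
    intro u v
    have h1 := hpol u v
    simp only [QuadraticMap.polar] at h1
    linear_combination h1
  have h0 : Q 0 - Q' 0 = 0 := by
    have h1 := hQ 0 0
    have h2 := hQ' 0 0
    simp only [zero_smul] at h1 h2
    rw [h1, h2]; ring
  have hsum : ∀ (s : Finset (Fin t → Fin m)) (u : (Fin t → Fin m) → (ι → F)),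
      Q (∑ k ∈ s, u k) - Q' (∑ k ∈ s, u k) = ∑ k ∈ s, (Q (u k) - Q' (u k)) := by
    intro s u
    induction s using Finset.induction_on with
    | empty => simpa using h0
    | insert a s ha ih => rw [Finset.sum_insert ha, Finset.sum_insert ha, hadd, ih]
  have hv : v = ∑ a, ((((P⁻¹ : GL ι F) : Matrix ι ι F) *ᵥ v) (e.symm a)) •
      framePure e P (fun i => Pi.single (a i) 1) := by
    have h1 : ((P⁻¹ : GL ι F) : Matrix ι ι F) *ᵥ v
        = ∑ a, ((((P⁻¹ : GL ι F) : Matrix ι ι F) *ᵥ v) (e.symm a)) • (pureVec (fun i => Pi.single (a i) (1 : F)) ∘ e) := by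
      funext i
      rw [Finset.sum_apply, Finset.sum_eq_single (e i)]
      · rw [← single_eq_pureVec]; simp
      · intro b _ hb
        rw [← single_eq_pureVec]
        simp only [Pi.smul_apply, Function.comp, smul_eq_mul]
        rw [Pi.single_eq_of_ne (fun h => hb h.symm), mul_zero]
      · intro h; exact absurd (Finset.mem_univ _) h
    have h2 : v = (P : Matrix ι ι F) *ᵥ (((P⁻¹ : GL ι F) : Matrix ι ι F) *ᵥ v) := by
      rw [Matrix.mulVec_mulVec, Units.mul_inv, Matrix.one_mulVec]
    calc v = (P : Matrix ι ι F) *ᵥ (((P⁻¹ : GL ι F) : Matrix ι ι F) *ᵥ v) := h2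
      _ = _ := by
        conv_lhs => rw [h1]
        rw [Matrix.mulVec_sum]
        simp only [Matrix.mulVec_smul, framePure]
  have h1 : Q v - Q' v = 0 := by
    conv_lhs => rw [hv]
    rw [hsum]
    apply Finset.sum_eq_zero
    intro a _
    rw [hQ, hQ', hpure, sub_self]
  exact sub_eq_zero.1 h1

/-- The quadratic form of the frame. -/
noncomputable def frameQuad (e : ι ≃ (Fin t → Fin m)) (P : GL ι F) (c : F) (j : Fin t)
    (G : Matrix (Fin m) (Fin m) F) (v : ι → F) : F :=
  c * tQuad j G (fun a => (((P⁻¹ : GL ι F) : Matrix ι ι F) *ᵥ v) (e.symm a))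

lemma frameQuad_frame (e : ι ≃ (Fin t → Fin m)) (P : GL ι F) (c : F) (j : Fin t)
    (G : Matrix (Fin m) (Fin m) F) (x : (Fin t → Fin m) → F) :
    frameQuad e P c j G ((P : Matrix ι ι F) *ᵥ (x ∘ e)) = c * tQuad j G x := by
  rw [frameQuad, Matrix.mulVec_mulVec, Units.inv_mul, Matrix.one_mulVec]
  congr 2
  funext a
  simp

lemma exists_frame_coords (e : ι ≃ (Fin t → Fin m)) (P : GL ι F) (v : ι → F) :
    ∃ x : (Fin t → Fin m) → F, v = (P : Matrix ι ι F) *ᵥ (x ∘ e) := by
  refine ⟨fun a => (((P⁻¹ : GL ι F) : Matrix ι ι F) *ᵥ v) (e.symm a), ?_⟩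
  have h1 : (fun a => (((P⁻¹ : GL ι F) : Matrix ι ι F) *ᵥ v) (e.symm a)) ∘ e
      = ((P⁻¹ : GL ι F) : Matrix ι ι F) *ᵥ v := by
    funext i; simp
  rw [h1, Matrix.mulVec_mulVec, Units.mul_inv, Matrix.one_mulVec]

lemma frameQuad_smul (e : ι ≃ (Fin t → Fin m)) (P : GL ι F) (c : F) (j : Fin t)
    (G : Matrix (Fin m) (Fin m) F) (a : F) (v : ι → F) :
    frameQuad e P c j G (a • v) = a ^ 2 * frameQuad e P c j G v := by
  obtain ⟨x, rfl⟩ := exists_frame_coords e P v
  have h1 : a • ((P : Matrix ι ι F) *ᵥ (x ∘ e)) = (P : Matrix ι ι F) *ᵥ ((a • x) ∘ e) := by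
    rw [← Matrix.mulVec_smul]; rfl
  rw [h1, frameQuad_frame, frameQuad_frame, tQuad_smul]; ring

lemma frameQuad_polar (e : ι ≃ (Fin t → Fin m)) (P : GL ι F) (c : F) (j : Fin t)
    {G : Matrix (Fin m) (Fin m) F} (hs : ∀ a b, G a b = G b a) (hd : ∀ a, G a a = 0)
    (x y : (Fin t → Fin m) → F) :
    QuadraticMap.polar (frameQuad e P c j G) ((P : Matrix ι ι F) *ᵥ (x ∘ e)) ((P : Matrix ι ι F) *ᵥ (y ∘ e))
      = c * sesq (RingEquiv.refl F) (pureMat (fun _ => G)) x y := by
  rw [QuadraticMap.polar, ← Matrix.mulVec_add]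
  have h1 : x ∘ e + y ∘ e = (x + y) ∘ e := rfl
  rw [h1, frameQuad_frame, frameQuad_frame, frameQuad_frame, ← tQuad_polar j hs hd, QuadraticMap.polar]
  ring

end Frame

section Main

variable {ι : Type} [Fintype ι] [DecidableEq ι] {F : Type*} [Field F] {t m : ℕ}
variable {H : Subgroup (GL ι F)} {e : ι ≃ (Fin t → Fin m)} {P : GL ι F} {E : Fin t → Subgroup (GL ι F)}

/-- Symplectic forms, characteristic not two: the factor form is symplectic and `t` is odd. -/
theorem C7_symplectic_odd {f : (ι → F) → (ι → F) → F} (hf : IsSymplecticForm f) (h2 : (2 : F) ≠ 0)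
    (hH : ∀ g ∈ H, ∀ u v, f ((g : Matrix ι ι F) *ᵥ u) ((g : Matrix ι ι F) *ᵥ v) = f u v)
    (W : WreathData H m t e P E) :
    ∃ (P' : GL ι F) (f₁ : (Fin m → F) → (Fin m → F) → F), WreathData H m t e P' E ∧ IsSymplecticForm f₁ ∧
      Odd t ∧ IsTensorPowerFormStructure id f f₁ e P' ∧ H ≤ tensorWreathSubgroup m t e P' ∧
      ∀ i, ∀ a ∈ facSet e P' E i, ∀ x y, f₁ (a *ᵥ x) (a *ᵥ y) = f₁ x y := by
  have hfh : HermForm (RingEquiv.refl F) (-1) f :=
    ⟨hf.bilinear.add_left, hf.bilinear.smul_left, fun _ => rfl, by simp,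
      fun v w => by rw [hf.skew v w]; simp, hf.nondegenerate⟩
  obtain ⟨P', ε₁, c, G, W', hG, hc, hform, heps, hinv⟩ := C_wreath_form hfh hH W
  simp only [RingEquiv.refl_apply] at heps
  have h1 : ε₁ ^ t = -1 := by
    have := mul_right_cancel₀ hc heps
    exact this
  have hne : (-1 : F) ≠ 1 := by
    intro h
    apply h2
    have h3 : (2 : F) = 1 - (-1) := by ring
    rw [h3, h, sub_self]
  have hε : ε₁ = -1 := by
    rcases eps_pm hG with h | h
    · rw [h, one_pow] at h1; exact absurd h1.symm hne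
    · exact h
  have ht : Odd t := by
    rcases Nat.even_or_odd t with h | h
    · rw [hε, h.neg_one_pow] at h1; exact absurd h1.symm hne
    · exact h
  rw [hε] at hG
  have hd : ∀ v, sesq (RingEquiv.refl F) G v v = 0 := by
    intro v
    have h3 := hG.herm v v
    simp only [RingEquiv.refl_apply] at h3
    have h4 : 2 * sesq (RingEquiv.refl F) G v v = 0 := by linear_combination h3
    exact (mul_eq_zero.1 h4).resolve_left h2
  refine ⟨P', sesq (RingEquiv.refl F) G, W', isSymplecticForm_sesq hG hd, ht, hasStructure hc hform, W'.wreath, ?_⟩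
  intro i a ha x y
  rw [sesq_mulVec, hinv i a ha]

/-- Characteristic two: the factor form is alternating. -/
theorem C7_alt_even [Finite F] {ε : F} {f : (ι → F) → (ι → F) → F} (hf : HermForm (RingEquiv.refl F) ε f)
    (h2 : (2 : F) = 0)
    (hH : ∀ g ∈ H, ∀ u v, f ((g : Matrix ι ι F) *ᵥ u) ((g : Matrix ι ι F) *ᵥ v) = f u v)
    (W : WreathData H m t e P E) :
    ∃ (P' : GL ι F) (c : F) (G : Matrix (Fin m) (Fin m) F), WreathData H m t e P' E ∧
      IsSymplecticForm (sesq (RingEquiv.refl F) G) ∧ (∀ a b, G a b = G b a) ∧ (∀ a, G a a = 0) ∧ c ≠ 0 ∧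
      (∀ x y : (Fin t → Fin m) → F, f ((P' : Matrix ι ι F) *ᵥ (x ∘ e)) ((P' : Matrix ι ι F) *ᵥ (y ∘ e))
        = c * sesq (RingEquiv.refl F) (pureMat (fun _ => G)) x y) ∧
      (∀ i, Inv (RingEquiv.refl F) (facSet e P' E i) G) := by
  have hneg : ∀ x : F, -x = x := by
    intro x
    have h1 : x + x = 0 := by rw [← two_mul, h2, zero_mul]
    exact neg_eq_of_add_eq_zero_left h1
  obtain ⟨P', ε₁, c, G, W', hG, hc, hform, heps, hinv⟩ := C_wreath_form hf hH W
  have hε : ε₁ = -1 := by
    rcases eps_pm hG with h | h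
    · rw [h, hneg]
    · exact h
  rw [hε] at hG
  have hs : ∀ x y, sesq (RingEquiv.refl F) G x y = sesq (RingEquiv.refl F) G y x := by
    intro x y
    rw [hG.herm x y]
    simp [hneg]
  have hd : ∀ v, sesq (RingEquiv.refl F) G v v = 0 := by
    intro v
    have ht : 0 < t := by have := W.two_le_t; omega
    refine semilinear_eq_zero (S := facSet e P' E ⟨0, ht⟩) h2 (by rw [Fintype.card_fin]; exact W.two_le_m)
      (W'.adjoin_facSet _) (q := fun v => sesq (RingEquiv.refl F) G v v) ?_ ?_ ?_ v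
    · intro x y
      change sesq (RingEquiv.refl F) G (x + y) (x + y) = _
      rw [hG.add_left, hG.add_right, hG.add_right, hs y x]
      have : sesq (RingEquiv.refl F) G x y + sesq (RingEquiv.refl F) G x y = 0 := by
        rw [← two_mul, h2, zero_mul]
      linear_combination this
    · intro a x
      change sesq (RingEquiv.refl F) G (a • x) (a • x) = _
      rw [hG.smul_left, hG.smul_right, RingEquiv.refl_apply]; ring
    · intro s hs' x
      change sesq (RingEquiv.refl F) G (s *ᵥ x) (s *ᵥ x) = _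
      rw [sesq_mulVec, hinv _ s hs']
  refine ⟨P', c, G, W', isSymplecticForm_sesq hG hd, ?_, ?_, hc, hform, hinv⟩
  · intro a b
    rw [← sesq_single (RingEquiv.refl F) G a b, hs, sesq_single]
  · intro a
    rw [← sesq_single (RingEquiv.refl F) G a a, hd]

/-- Symplectic forms, characteristic two: a quadratic form is preserved. -/
theorem C7_symplectic_even [Finite F] {f : (ι → F) → (ι → F) → F} (hf : IsSymplecticForm f) (h2 : (2 : F) = 0)
    (hH : ∀ g ∈ H, ∀ u v, f ((g : Matrix ι ι F) *ᵥ u) ((g : Matrix ι ι F) *ᵥ v) = f u v)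
    (W : WreathData H m t e P E) :
    ∃ (P' : GL ι F) (Q : (ι → F) → F) (f₁ : (Fin m → F) → (Fin m → F) → F), WreathData H m t e P' E ∧
      IsSymplecticForm f₁ ∧ IsTensorPowerFormStructure id f f₁ e P' ∧
      IsNondegenerateQuadraticForm Q ∧ (∀ u v, QuadraticMap.polar Q u v = f u v) ∧
      (∀ w, Q (framePure e P' w) = 0) ∧ (∀ g ∈ H, ∀ v, Q ((g : Matrix ι ι F) *ᵥ v) = Q v) := by
  have hfh : HermForm (RingEquiv.refl F) (-1) f :=
    ⟨hf.bilinear.add_left, hf.bilinear.smul_left, fun _ => rfl, by simp,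
      fun v w => by rw [hf.skew v w]; simp, hf.nondegenerate⟩
  obtain ⟨P', c, G, W', hG, hs, hd, hc, hform, hinv⟩ := C7_alt_even hfh h2 hH W
  have ht := W.two_le_t
  let j : Fin t := ⟨0, by omega⟩
  let i₀ : Fin t := ⟨1, by omega⟩
  have hij : i₀ ≠ j := by intro h; simp [i₀, j] at h
  set Q := frameQuad e P' c j G with hQ
  have hpol : ∀ u v, QuadraticMap.polar Q u v = f u v := by
    intro u v
    obtain ⟨x, rfl⟩ := exists_frame_coords e P' u
    obtain ⟨y, rfl⟩ := exists_frame_coords e P' v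
    rw [hQ, frameQuad_polar e P' c j hs hd, hform]
  have hpolf : QuadraticMap.polar Q = f := by funext u v; exact hpol u v
  have hpure : ∀ w, Q (framePure e P' w) = 0 := by
    intro w
    rw [hQ, framePure, frameQuad_frame, tQuad_pureVec h2 hij hs hd, mul_zero]
  refine ⟨P', Q, _, W', hG, hasStructure hc hform, ⟨?_, ?_, ?_⟩, hpol, hpure, ?_⟩
  · intro a v; exact frameQuad_smul e P' c j G a v
  · rw [hpolf]; exact hf.bilinear
  · rw [hpolf]; exact hf.nondegenerate
  · intro g hg
    refine quad_eq_of_pure (Q := fun v => Q ((g : Matrix ι ι F) *ᵥ v)) (Q' := Q) ?_ ?_ ?_ e P' ?_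
    · intro a v
      change Q ((g : Matrix ι ι F) *ᵥ (a • v)) = _
      rw [Matrix.mulVec_smul]; exact frameQuad_smul e P' c j G a _
    · intro a v; exact frameQuad_smul e P' c j G a v
    · intro u v
      have h1 : QuadraticMap.polar (fun v => Q ((g : Matrix ι ι F) *ᵥ v)) u v
          = QuadraticMap.polar Q ((g : Matrix ι ι F) *ᵥ u) ((g : Matrix ι ι F) *ᵥ v) := by
        simp only [QuadraticMap.polar, Matrix.mulVec_add]
      rw [h1, hpol, hpol]; exact hH g hg u v
    · intro w
      obtain ⟨w', hw'⟩ := exists_framePure (W'.wreath hg) w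
      change Q ((g : Matrix ι ι F) *ᵥ framePure e P' w) = _
      rw [hw', hpure, hpure]

/-- The enveloping algebra of the product of the `E i` is everything. -/
theorem WreathData.adjoin_iUnion (W : WreathData H m t e P E) :
    Algebra.adjoin F (⋃ i, matrixSet (E i)) = ⊤ := by
  have h1 := adjoin_slots (fun i => facSet e P E i) (fun i => W.adjoin_facSet i)
  rw [eq_top_iff]
  intro X _
  have h2 : (frameAlg e P).symm X ∈ Algebra.adjoin F (⋃ i, slotMat i '' facSet e P E i) := by
    rw [h1]; trivial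
  have h3 : X ∈ (Algebra.adjoin F (⋃ i, slotMat i '' facSet e P E i)).map (frameAlg e P : _ →ₐ[F] Matrix ι ι F) :=
    ⟨_, h2, by simp⟩
  rw [AlgHom.map_adjoin] at h3
  refine Algebra.adjoin_mono ?_ h3
  rintro _ ⟨Y, hY, rfl⟩
  obtain ⟨i, a, ⟨g, hg, hga⟩, rfl⟩ := Set.mem_iUnion.1 hY
  exact Set.mem_iUnion.2 ⟨i, g, hg, hga⟩

/-- Orthogonal groups in characteristic two: the quadratic form vanishes on the pure tensors. -/
theorem C7_quad_even [Finite F] {Q : (ι → F) → F} (hQ : IsNondegenerateQuadraticForm Q) (h2 : (2 : F) = 0)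
    (hH : ∀ g ∈ H, ∀ v, Q ((g : Matrix ι ι F) *ᵥ v) = Q v) (W : WreathData H m t e P E) :
    ∃ (P' : GL ι F) (f₁ : (Fin m → F) → (Fin m → F) → F), WreathData H m t e P' E ∧
      IsSymplecticForm f₁ ∧ IsTensorPowerFormStructure id (QuadraticMap.polar Q) f₁ e P' ∧
      (∀ w, Q (framePure e P' w) = 0) := by
  have hneg : ∀ x : F, -x = x := by
    intro x
    have h1 : x + x = 0 := by rw [← two_mul, h2, zero_mul]
    exact neg_eq_of_add_eq_zero_left h1
  have hsym : ∀ u v, QuadraticMap.polar Q u v = QuadraticMap.polar Q v u := fun u v => QuadraticMap.polar_comm Q u v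
  have halt : ∀ v, QuadraticMap.polar Q v v = 0 := by
    intro v
    rw [QuadraticMap.polar, ← two_smul F v, hQ.smul, h2]
    have : Q v + Q v = 0 := by rw [← two_mul, h2, zero_mul]
    linear_combination -this
  have hf : IsSymplecticForm (QuadraticMap.polar Q) :=
    ⟨hQ.polar_bilinear, fun u v => by rw [hneg, hsym], halt, hQ.nondegenerate⟩
  have hHp : ∀ g ∈ H, ∀ u v, QuadraticMap.polar Q ((g : Matrix ι ι F) *ᵥ u) ((g : Matrix ι ι F) *ᵥ v)
      = QuadraticMap.polar Q u v := by
    intro g hg u v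
    simp only [QuadraticMap.polar, ← Matrix.mulVec_add, hH g hg]
  obtain ⟨P', Q', f₁, W', hf₁, hst, hQ', hpol, hpure, hHQ'⟩ := C7_symplectic_even hf h2 hHp W
  refine ⟨P', f₁, W', hf₁, hst, ?_⟩
  have hcard : 2 ≤ Fintype.card ι := by
    have h1 : Fintype.card ι = m ^ t := by
      rw [Fintype.card_congr e]; simp
    rw [h1]
    calc 2 ≤ m := W.two_le_m
      _ = m ^ 1 := (pow_one m).symm
      _ ≤ m ^ t := Nat.pow_le_pow_right (by have := W.two_le_m; omega) (by have := W.two_le_t; omega)
  have hD : ∀ v, Q v - Q' v = 0 := by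
    intro v
    refine semilinear_eq_zero (S := ⋃ i, matrixSet (E i)) h2 hcard W.adjoin_iUnion
      (q := fun v => Q v - Q' v) ?_ ?_ ?_ v
    · intro x y
      have h1 := hpol x y
      simp only [QuadraticMap.polar] at h1
      change Q (x + y) - Q' (x + y) = (Q x - Q' x) + (Q y - Q' y)
      linear_combination -h1
    · intro a x
      change Q (a • x) - Q' (a • x) = a ^ 2 * (Q x - Q' x)
      rw [hQ.smul, hQ'.smul]; ring
    · intro s hs x
      obtain ⟨i, g, hg, rfl⟩ := Set.mem_iUnion.1 hs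
      change Q ((g : Matrix ι ι F) *ᵥ x) - Q' ((g : Matrix ι ι F) *ᵥ x) = Q x - Q' x
      rw [hH g (W.le i hg), hHQ' g (W.le i hg)]
  intro w
  rw [sub_eq_zero.1 (hD _), hpure]

end Main

end Cfsg.Agent.H919
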