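import Cfsg.Agent.H919.AschWreathForm3
import Cfsg.Agent.H912.TensForm2
import Cfsg.Agent.S0144
set_option linter.all false

/-!
# Tensor power decompositions: unitary and orthogonal forms, small factors (helper919)

* `C7_unitary`, `C7_orth_odd` : the factor form;
* `facGroup` : the factor group on `F^m`, a perfect group; `WreathData.det_facSet`;
* `WreathData.not_solvable` : `GL_m(F)`, or any subgroup containing the factor group, is not solvable;
* `WreathData.two_alternating` : for `m = 2` the factor form is alternating.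
-/

set_option autoImplicit false
set_option linter.unusedSectionVars false
set_option linter.unusedVariables false

namespace Cfsg.Agent.H919

open Cfsg Cfsg.Geo Cfsg.Agent.H922 Cfsg.Agent.H912
open scoped MatrixGroups Matrix Kronecker commutatorElement

variable {ι : Type} [Fintype ι] [DecidableEq ι] {F : Type*} [Field F] {t m : ℕ}
variable {H : Subgroup (GL ι F)} {e : ι ≃ (Fin t → Fin m)} {P : GL ι F} {E : Fin t → Subgroup (GL ι F)}

lemma pureMat_smul_const (c : F) (G : Matrix (Fin m) (Fin m) F) :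
    pureMat (fun _ : Fin t => c • G) = c ^ t • pureMat (fun _ => G) := by
  ext a b
  rw [Matrix.smul_apply, pureMat_apply, pureMat_apply]
  simp only [Matrix.smul_apply, smul_eq_mul, Finset.prod_mul_distrib, Finset.prod_const, Finset.card_univ,
    Fintype.card_fin]

/-- Unitary forms: the factor form is unitary. -/
theorem C7_unitary {σ : F ≃+* F} (hσ : σ ≠ RingEquiv.refl F) {f : (ι → F) → (ι → F) → F}
    (hf : HermForm σ 1 f)
    (hH : ∀ g ∈ H, ∀ u v, f ((g : Matrix ι ι F) *ᵥ u) ((g : Matrix ι ι F) *ᵥ v) = f u v)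
    (W : WreathData H m t e P E) :
    ∃ (P' : GL ι F) (f₁ : (Fin m → F) → (Fin m → F) → F), WreathData H m t e P' E ∧ HermForm σ 1 f₁ ∧
      IsUnitaryForm σ f₁ ∧ IsTensorPowerFormStructure σ f f₁ e P' ∧ H ≤ tensorWreathSubgroup m t e P' ∧
      ∀ i, ∀ a ∈ facSet e P' E i, ∀ x y, f₁ (a *ᵥ x) (a *ᵥ y) = f₁ x y := by
  obtain ⟨P', ε₁, c, G, W', hG, hc, hform, heps, hinv⟩ := C_wreath_form hf hH W
  obtain ⟨ν, hν, hν1⟩ := hilbert90 hf.sigma_sq hσ hG.eps
  have e1 := HermForm_smul hG hν
  have hε1 : ε₁ ≠ 0 := hG.eps_ne_zero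
  have c1 : ε₁ * ν * (σ ν)⁻¹ = 1 := by rw [hν1]; field_simp
  rw [c1] at e1
  have h1 : (fun v w => ν * sesq σ G v w) = sesq σ (ν • G) := by
    funext v w; rw [sesq_smul]
  rw [h1] at e1
  refine ⟨P', sesq σ (ν • G), W', e1, isUnitaryForm_sesq hσ e1, ?_, W'.wreath, ?_⟩
  · refine hasStructure (c := c * (ν ^ t)⁻¹) (mul_ne_zero hc (inv_ne_zero (pow_ne_zero _ hν))) ?_
    intro x y
    rw [hform, pureMat_smul_const, sesq_smul]
    have : ν ^ t ≠ 0 := pow_ne_zero _ hν
    field_simp
  · intro i a ha x y
    rw [sesq_mulVec, Matrix.mul_smul, Matrix.smul_mul, hinv i a ha]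

/-- Symmetric forms, characteristic not two. -/
theorem C7_orth_odd {f : (ι → F) → (ι → F) → F} (hf : IsSymmetricForm f) (h2 : (2 : F) ≠ 0)
    (hH : ∀ g ∈ H, ∀ u v, f ((g : Matrix ι ι F) *ᵥ u) ((g : Matrix ι ι F) *ᵥ v) = f u v)
    (W : WreathData H m t e P E) :
    ∃ (P' : GL ι F) (f₁ : (Fin m → F) → (Fin m → F) → F), WreathData H m t e P' E ∧
      (IsSymmetricForm f₁ ∨ (IsSymplecticForm f₁ ∧ Even t)) ∧
      IsTensorPowerFormStructure id f f₁ e P' ∧ H ≤ tensorWreathSubgroup m t e P' ∧
      ∀ i, ∀ a ∈ facSet e P' E i, ∀ x y, f₁ (a *ᵥ x) (a *ᵥ y) = f₁ x y := by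
  have hfh : HermForm (RingEquiv.refl F) 1 f :=
    ⟨hf.bilinear.add_left, hf.bilinear.smul_left, fun _ => rfl, by simp,
      fun v w => by rw [hf.symm v w]; simp, hf.nondegenerate⟩
  obtain ⟨P', ε₁, c, G, W', hG, hc, hform, heps, hinv⟩ := C_wreath_form hfh hH W
  simp only [RingEquiv.refl_apply] at heps
  have h1 : ε₁ ^ t = 1 := by
    have := mul_right_cancel₀ hc heps
    exact this
  have hne : (-1 : F) ≠ 1 := by
    intro h
    apply h2
    have h3 : (2 : F) = 1 - (-1) := by ring
    rw [h3, h, sub_self]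
  refine ⟨P', sesq (RingEquiv.refl F) G, W', ?_, hasStructure hc hform, W'.wreath, ?_⟩
  · rcases eps_pm hG with h | h
    · rw [h] at hG; exact Or.inl (isSymmetricForm_sesq hG)
    · right
      rw [h] at hG
      refine ⟨isSymplecticForm_sesq hG ?_, ?_⟩
      · intro v
        have h3 := hG.herm v v
        simp only [RingEquiv.refl_apply] at h3
        have h4 : 2 * sesq (RingEquiv.refl F) G v v = 0 := by linear_combination h3
        exact (mul_eq_zero.1 h4).resolve_left h2
      · rcases Nat.even_or_odd t with h' | h'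
        · exact h'
        · rw [h, h'.neg_one_pow] at h1; exact absurd h1 hne
  · intro i a ha x y
    rw [sesq_mulVec, hinv i a ha]

/-! ### The factor group -/

/-- The embedding of `GL_m(F)` in `GL ι F` through the `i`-th slot of the frame. -/
noncomputable def facHom (e : ι ≃ (Fin t → Fin m)) (P : GL ι F) (i : Fin t) : GL (Fin m) F →* GL ι F :=
  Units.map (slotFrame e P i : _ →* Matrix ι ι F)

lemma facHom_val (i : Fin t) (g : GL (Fin m) F) :
    (facHom e P i g : Matrix ι ι F) = frameMat e P (slotMat i (g : Matrix (Fin m) (Fin m) F)) := rfl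

lemma facHom_injective (hm : 0 < m) (i : Fin t) : Function.Injective (facHom (F := F) e P i) := by
  intro g h hgh
  apply Units.ext
  apply slotFrame_injective (e := e) (P := P) hm i
  exact congrArg (fun x : GL ι F => (x : Matrix ι ι F)) hgh

/-- The factor group on `F^m`. -/
noncomputable def facGroup (e : ι ≃ (Fin t → Fin m)) (P : GL ι F) (E : Fin t → Subgroup (GL ι F)) (i : Fin t) :
    Subgroup (GL (Fin m) F) := (E i).comap (facHom e P i)

lemma mem_facGroup {i : Fin t} {g : GL (Fin m) F} : g ∈ facGroup e P E i ↔ (g : Matrix (Fin m) (Fin m) F) ∈ facSet e P E i := by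
  constructor
  · intro h; exact ⟨_, h, rfl⟩
  · rintro ⟨x, hx, hxg⟩
    have : facHom e P i g = x := Units.ext hxg.symm
    change facHom e P i g ∈ E i
    rw [this]; exact hx

lemma WreathData.map_facGroup (W : WreathData H m t e P E) (i : Fin t) :
    (facGroup e P E i).map (facHom e P i) = E i := by
  apply le_antisymm
  · rintro _ ⟨g, hg, rfl⟩; exact hg
  · intro x hx
    obtain ⟨a, ha⟩ := (W.env_iff i _).1 (mem_adjoin hx)
    obtain ⟨u, hu⟩ := W.isUnit_facSet i a ⟨x, hx, ha⟩
    have h1 : facHom e P i u = x := by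
      apply Units.ext; rw [facHom_val, hu, ← ha]
    refine ⟨u, ?_, h1⟩
    change facHom e P i u ∈ E i
    rw [h1]; exact hx

lemma WreathData.facGroup_perfect (W : WreathData H m t e P E) (i : Fin t) :
    ⁅facGroup e P E i, facGroup e P E i⁆ = facGroup e P E i := by
  have hm : 0 < m := by have := W.two_le_m; omega
  apply Subgroup.map_injective (facHom_injective (e := e) (P := P) hm i)
  rw [Subgroup.map_commutator, W.map_facGroup i, W.perfect i]

lemma WreathData.facGroup_ne_bot (W : WreathData H m t e P E) (i : Fin t) : facGroup e P E i ≠ ⊥ := by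
  intro h
  apply W.not_scalar i
  rw [← W.map_facGroup i, h, Subgroup.map_bot]
  exact bot_le

/-- The factor group has determinant one. -/
lemma WreathData.det_facSet (W : WreathData H m t e P E) (i : Fin t) :
    ∀ a ∈ facSet e P E i, a.det = 1 := by
  intro a ha
  obtain ⟨u, rfl⟩ := W.isUnit_facSet i a ha
  have h1 : u ∈ facGroup e P E i := mem_facGroup.2 ha
  rw [← W.facGroup_perfect i] at h1
  have h2 : ⁅facGroup e P E i, facGroup e P E i⁆ ≤ (Matrix.GeneralLinearGroup.det : GL (Fin m) F →* Fˣ).ker := by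
    rw [Subgroup.commutator_le]
    intro x _ y _
    rw [MonoidHom.mem_ker, map_commutatorElement, commutatorElement_eq_one_iff_mul_comm, mul_comm]
  have h3 := h2 h1
  rw [MonoidHom.mem_ker] at h3
  have h4 := congrArg (fun x : Fˣ => (x : F)) h3
  simpa using h4

/-- A subgroup containing the factor group is not solvable. -/
theorem WreathData.not_solvable (W : WreathData H m t e P E) (i : Fin t) {K : Subgroup (GL (Fin m) F)}
    (hK : facGroup e P E i ≤ K) : ¬ Group.IsSolvable K := by
  intro hs
  have h1 : ∀ n, facGroup e P E i ≤ (derivedSeries K n).map K.subtype := by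
    intro n
    induction n with
    | zero =>
      rw [derivedSeries_zero]
      intro x hx
      exact ⟨⟨x, hK hx⟩, trivial, rfl⟩
    | succ n ih =>
      rw [derivedSeries_succ, Subgroup.map_commutator]
      calc facGroup e P E i = ⁅facGroup e P E i, facGroup e P E i⁆ := (W.facGroup_perfect i).symm
        _ ≤ _ := Subgroup.commutator_mono ih ih
  obtain ⟨n, hn⟩ := hs.solvable
  have h2 := h1 n
  rw [hn, Subgroup.map_bot, le_bot_iff] at h2
  exact W.facGroup_ne_bot i h2

/-- No tensor power data with two-dimensional factors over fields with two or three elements. -/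
theorem WreathData.not_two_small [Fintype F] {e : ι ≃ (Fin t → Fin 2)} (W : WreathData H 2 t e P E) (hF : Fintype.card F ≤ 3) : False := by
  have ht : 0 < t := by have := W.two_le_t; omega
  apply W.not_solvable ⟨0, ht⟩ (K := ⊤) le_top
  have hcard : Nat.card (GL (Fin 2) F) = (Fintype.card F ^ 2 - 1) * (Fintype.card F ^ 2 - Fintype.card F) := by
    rw [Matrix.card_GL_field]
    simp [Fin.prod_univ_succ]
  have h1 : Fintype.card F = 2 ∨ Fintype.card F = 3 := by
    have := Fintype.one_lt_card (α := F); omega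
  have h2 : ∃ a b, Nat.card (⊤ : Subgroup (GL (Fin 2) F)) = 2 ^ a * 3 ^ b := by
    rw [Subgroup.card_top, hcard]
    rcases h1 with h | h
    · rw [h]; exact ⟨1, 1, rfl⟩
    · rw [h]; exact ⟨4, 1, rfl⟩
  obtain ⟨a, b, hab⟩ := h2
  exact Cfsg.Agent.S0144.result 2 3 a b Nat.prime_two Nat.prime_three hab

/-- For two-dimensional factors a bilinear factor form is alternating. -/
theorem WreathData.two_alternating {e : ι ≃ (Fin t → Fin 2)} (W : WreathData H 2 t e P E) (i : Fin t)
    {f₁ : (Fin 2 → F) → (Fin 2 → F) → F} (hf₁ : IsBilinearForm f₁)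
    (hinv : ∀ a ∈ facSet e P E i, ∀ x y, f₁ (a *ᵥ x) (a *ᵥ y) = f₁ x y) (v : Fin 2 → F) : f₁ v v = 0 := by
  set J : Matrix (Fin 2) (Fin 2) F := !![0, 1; -1, 0] with hJ
  have hJu : IsUnit J := by
    rw [Matrix.isUnit_iff_isUnit_det, hJ, Matrix.det_fin_two_of]; simp
  have hJinv : Inv (RingEquiv.refl F) (facSet e P E i) J := by
    intro a ha
    have hd := W.det_facSet i a ha
    rw [Matrix.det_fin_two] at hd
    ext r s
    fin_cases r <;> fin_cases s <;>
      simp [hJ, Matrix.mul_apply, Fin.sum_univ_two] <;>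
      first | linear_combination hd | linear_combination -hd | ring
  set G : Matrix (Fin 2) (Fin 2) F := gramMatrix f₁ with hG
  have hgram : ∀ x y, f₁ x y = sesq (RingEquiv.refl F) G x y := by
    intro x y
    rw [sesq_eq_sum]
    have hx : ∀ x : Fin 2 → F, x = ∑ a, x a • (Pi.single a (1 : F) : Fin 2 → F) := by
      intro x
      funext b
      fin_cases b <;> simp [Fin.sum_univ_two]
    conv_lhs => rw [hx x, hx y]
    simp only [Fin.sum_univ_two, hf₁.add_left, hf₁.add_right, hf₁.smul_left, hf₁.smul_right, hG, gramMatrix,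
      RingEquiv.refl_apply]
    ring
  have hGinv : Inv (RingEquiv.refl F) (facSet e P E i) G := by
    intro a ha
    apply sesq_injective (RingEquiv.refl F)
    intro x y
    rw [← sesq_mulVec, ← hgram, ← hgram, hinv a ha]
  obtain ⟨c, hc⟩ := inv_unique (W.adjoin_facSet i) (W.isUnit_facSet i) hGinv hJinv hJu
  rw [hgram, hc, sesq_smul, sesq_eq_sum, hJ]
  simp [Fin.sum_univ_two]
  ring_nf
  simp

end Cfsg.Agent.H919
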